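import Groth.Agent.Lib.DvrHom8.Main
import Mathlib.RingTheory.DiscreteValuationRing.Basic

/-! The fibres over a discrete valuation ring. -/

set_option autoImplicit false
set_option linter.style.haveILetI false
set_option linter.unusedSectionVars false
set_option backward.isDefEq.respectTransparency false
set_option backward.isDefEq.respectTransparency.types false
set_option maxHeartbeats 800000

universe u

open CategoryTheory CategoryTheory.Limits AlgebraicGeometry TopologicalSpace Opposite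

noncomputable section

namespace Groth.Agent.DvrHom8

open Groth.Agent

variable {R : Type u} [CommRing R]

/-- Evaluation at a point of the spectrum. -/
def rhoC (y : ↥(Spec (CommRingCat.of R))) : CommRingCat.of R ⟶ (Spec (CommRingCat.of R)).residueField y :=
  (Scheme.ΓSpecIso (CommRingCat.of R)).inv ≫ (Spec (CommRingCat.of R)).presheaf.germ ⊤ y trivial ≫ (Spec (CommRingCat.of R)).residue y

/-- Evaluation at a point, as a ring map. -/
abbrev rho (y : ↥(Spec (CommRingCat.of R))) : R →+* (Spec (CommRingCat.of R)).residueField y := (rhoC y).hom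

theorem fromSpecResidueField_eq (y : ↥(Spec (CommRingCat.of R))) : (Spec (CommRingCat.of R)).fromSpecResidueField y = Spec.map (rhoC y) := by
  rw [Scheme.fromSpecResidueField, Spec.fromSpecStalk_eq, ← Spec.map_comp]
  rfl

theorem mem_iff_isUnit (y : ↥(Spec (CommRingCat.of R))) (c : R) : c ∉ (y : PrimeSpectrum R).asIdeal ↔
    IsUnit ((Spec (CommRingCat.of R)).presheaf.germ ⊤ y trivial ((Scheme.ΓSpecIso (CommRingCat.of R)).inv c)) := by
  rw [← Scheme.mem_basicOpen, basicOpen_eq_of_affine]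
  exact Iff.rfl

theorem rho_eq_zero_iff (y : ↥(Spec (CommRingCat.of R))) (c : R) : rho y c = 0 ↔ c ∈ (y : PrimeSpectrum R).asIdeal := by
  have h := IsLocalRing.residue_eq_zero_iff (R := (Spec (CommRingCat.of R)).presheaf.stalk y)
    ((Spec (CommRingCat.of R)).presheaf.germ ⊤ y trivial ((Scheme.ΓSpecIso (CommRingCat.of R)).inv c))
  refine h.trans ?_
  rw [IsLocalRing.mem_maximalIdeal, mem_nonunits_iff, ← mem_iff_isUnit, not_not]

theorem exists_stalk_frac (y : ↥(Spec (CommRingCat.of R))) (z : (Spec (CommRingCat.of R)).presheaf.stalk y) : ∃ a b : R, b ∉ (y : PrimeSpectrum R).asIdeal ∧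
    z * (Spec (CommRingCat.of R)).presheaf.germ ⊤ y trivial ((Scheme.ΓSpecIso (CommRingCat.of R)).inv b) =
      (Spec (CommRingCat.of R)).presheaf.germ ⊤ y trivial ((Scheme.ΓSpecIso (CommRingCat.of R)).inv a) := by
  letI := TopCat.Presheaf.algebra_section_stalk (Spec (CommRingCat.of R)).presheaf (⟨y, trivial⟩ : (⊤ : (Spec (CommRingCat.of R)).Opens))
  haveI := (isAffineOpen_top (Spec (CommRingCat.of R))).isLocalization_stalk ⟨y, trivial⟩
  obtain ⟨⟨a, s⟩, h⟩ := IsLocalization.surj ((isAffineOpen_top (Spec (CommRingCat.of R))).primeIdealOf ⟨y, trivial⟩).asIdeal.primeCompl z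
  have hs : IsUnit ((Spec (CommRingCat.of R)).presheaf.germ ⊤ y trivial s.1) :=
    IsLocalization.map_units ((Spec (CommRingCat.of R)).presheaf.stalk y) s
  obtain ⟨a', ha⟩ := (ConcreteCategory.bijective_of_isIso (Scheme.ΓSpecIso (CommRingCat.of R)).inv).2 a
  obtain ⟨b', hb⟩ := (ConcreteCategory.bijective_of_isIso (Scheme.ΓSpecIso (CommRingCat.of R)).inv).2 s.1
  exact ⟨a', b', (mem_iff_isUnit y b').2 (by erw [hb]; exact hs), by erw [ha, hb]; exact h⟩

theorem rho_surj (y : ↥(Spec (CommRingCat.of R))) (z : (Spec (CommRingCat.of R)).residueField y) :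
    ∃ a b : R, b ∉ (y : PrimeSpectrum R).asIdeal ∧ z * rho y b = rho y a := by
  obtain ⟨w, rfl⟩ := (Spec (CommRingCat.of R)).residue_surjective y z
  obtain ⟨a, b, hb, h⟩ := exists_stalk_frac y w
  exact ⟨a, b, hb, (map_mul ((Spec (CommRingCat.of R)).residue y).hom _ _).symm.trans (congrArg _ h)⟩

section DVR

variable [IsDomain R] [IsDiscreteValuationRing R]

variable (R) in
/-- The generic point. -/
def eta : ↥(Spec (CommRingCat.of R)) := (⟨⊥, Ideal.isPrime_bot⟩ : PrimeSpectrum R)

theorem rho_eta_eq_zero {c : R} : rho (eta R) c = 0 ↔ c = 0 :=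
  (rho_eq_zero_iff _ c).trans Ideal.mem_bot

theorem eq_eta_iff {t : R} (ht : Irreducible t) (y : ↥(Spec (CommRingCat.of R))) : y = eta R ↔ t ∉ (y : PrimeSpectrum R).asIdeal := by
  constructor
  · rintro rfl h
    exact ht.ne_zero (Ideal.mem_bot.1 h)
  · intro h
    refine PrimeSpectrum.ext ?_
    by_contra hne
    haveI := (y : PrimeSpectrum R).isPrime.isMaximal hne
    exact h ((IsLocalRing.eq_maximalIdeal (I := (y : PrimeSpectrum R).asIdeal) inferInstance).ge (by
      rw [ht.maximalIdeal_eq]; exact Ideal.mem_span_singleton_self t))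

theorem isOpenImmersion_eta {t : R} (ht : Irreducible t) : IsOpenImmersion ((Spec (CommRingCat.of R)).fromSpecResidueField (eta R)) := by
  rw [fromSpecResidueField_eq]
  letI : Algebra R ((Spec (CommRingCat.of R)).residueField (eta R)) := (rho (eta R)).toAlgebra
  haveI : IsLocalization.Away t ((Spec (CommRingCat.of R)).residueField (eta R)) := by
    refine (isLocalization_iff (M := Submonoid.powers t) (S := (Spec (CommRingCat.of R)).residueField (eta R))).2 ⟨?_, fun z => ?_, fun {x y} h => ⟨1, ?_⟩⟩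
    · rintro ⟨_, n, rfl⟩
      exact IsUnit.mk0 _ fun h => (pow_ne_zero n ht.ne_zero) (rho_eta_eq_zero.1 h)
    · obtain ⟨a, b, hb, h⟩ := rho_surj (eta R) z
      obtain ⟨n, v, rfl⟩ := IsDiscreteValuationRing.eq_unit_mul_pow_irreducible
        (fun h0 : b = 0 => hb (Ideal.mem_bot.2 h0)) ht
      refine ⟨⟨a * ↑v⁻¹, ⟨t ^ n, n, rfl⟩⟩, ?_⟩
      show z * rho (eta R) (t ^ n) = rho (eta R) (a * ↑v⁻¹)
      rw [map_mul, ← h, mul_assoc, ← map_mul]
      congr 2
      rw [mul_comm, ← mul_assoc, Units.inv_mul, one_mul]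
    · have hxy := rho_eta_eq_zero.1 (show rho (eta R) (x - y) = 0 by rw [map_sub, sub_eq_zero]; exact h)
      rw [sub_eq_zero.1 hxy]
  exact IsOpenImmersion.of_isLocalization t

end DVR

section scheme

variable {X : Scheme.{u}} [X.Over (Spec (CommRingCat.of R))]

local notation "pp" => X ↘ Spec (CommRingCat.of R)

theorem toGlobal_fiber (y : ↥(Spec (CommRingCat.of R))) (c : R) :
    Coh.toGlobal (Scheme.Hom.fiberToSpecResidueField pp y) (rho y c) =
      (Scheme.Hom.fiberι pp y).appTop (gl c) := by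
  have h1 : (Scheme.ΓSpecIso ((Spec (CommRingCat.of R)).residueField y)).inv (rho y c) =
      ((Spec (CommRingCat.of R)).fromSpecResidueField y).appTop ((Scheme.ΓSpecIso (CommRingCat.of R)).inv c) := by
    rw [fromSpecResidueField_eq]
    exact ConcreteCategory.congr_hom (Scheme.ΓSpecIso_inv_naturality (rhoC y)) c
  refine (congrArg (Scheme.Hom.fiberToSpecResidueField pp y).appTop h1).trans ?_
  show (Scheme.Hom.fiberToSpecResidueField pp y).appTop (((Spec (CommRingCat.of R)).fromSpecResidueField y).appTop _) =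
    (Scheme.Hom.fiberι pp y).appTop ((pp).appTop _)
  have h2 : (Scheme.Hom.fiberToSpecResidueField pp y ≫ (Spec (CommRingCat.of R)).fromSpecResidueField y).appTop =
      (Scheme.Hom.fiberι pp y ≫ pp).appTop :=
    congrArg (fun f : Scheme.Hom.fiber pp y ⟶ (Spec (CommRingCat.of R)) => f.appTop) pullback.condition.symm
  rw [Scheme.Hom.comp_appTop, Scheme.Hom.comp_appTop] at h2
  exact ConcreteCategory.congr_hom h2 _

theorem pullback_smul (y : ↥(Spec (CommRingCat.of R))) {I F : X.Modules} (c : R) (φ : I ⟶ F) :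
    letI : (Scheme.Hom.fiber pp y).Over (Spec (CommRingCat.of ((Spec (CommRingCat.of R)).residueField y))) :=
      ⟨Scheme.Hom.fiberToSpecResidueField pp y⟩
    (Scheme.Modules.pullback (Scheme.Hom.fiberι pp y)).map (c • φ) =
      rho y c • (Scheme.Modules.pullback (Scheme.Hom.fiberι pp y)).map φ := by
  have h : Formal.smulModΓ ((Scheme.Modules.pullback (Scheme.Hom.fiberι pp y)).obj I)
      ((Scheme.Hom.fiberι pp y).appTop (gl c)) =
      Formal.smulModΓ ((Scheme.Modules.pullback (Scheme.Hom.fiberι pp y)).obj I)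
        (Coh.toGlobal (Scheme.Hom.fiberToSpecResidueField pp y) (rho y c)) :=
    congrArg _ (toGlobal_fiber y c).symm
  refine ((Scheme.Modules.pullback (Scheme.Hom.fiberι pp y)).map_comp _ _).trans ?_
  exact congrArg (· ≫ (Scheme.Modules.pullback (Scheme.Hom.fiberι pp y)).map φ)
    ((KS29.pullback_map_smulModΓ _ I _).trans h)

variable [IsDomain R] [IsDiscreteValuationRing R]

theorem opensRange_eta {t : R} (ht : Irreducible t) [IsOpenImmersion (Scheme.Hom.fiberι pp (eta R))] :
    (Scheme.Hom.fiberι pp (eta R)).opensRange = X.basicOpen (gl t) := by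
  ext x
  rw [show (X.basicOpen (gl t) : X.Opens) = pp ⁻¹ᵁ (Spec (CommRingCat.of R)).basicOpen ((Scheme.ΓSpecIso (CommRingCat.of R)).inv t) from
    (Scheme.preimage_basicOpen _ _).symm]
  show x ∈ Set.range (Scheme.Hom.fiberι pp (eta R)) ↔ pp x ∈ (Spec (CommRingCat.of R)).basicOpen _
  rw [Scheme.Hom.range_fiberι, Set.mem_preimage, Set.mem_singleton_iff, eq_eta_iff ht,
    basicOpen_eq_of_affine]
  rfl

/-- The action on sections of a direct image of a restriction. -/
theorem smul_pushRes {G : Scheme.{u}} (g : G ⟶ X) [IsOpenImmersion g] {F : X.Modules} {U : X.Opens}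
    (r : Γ(X, U)) (m : Γ((Scheme.Modules.restrictFunctor g ⋙ Scheme.Modules.pushforward g).obj F, U)) :
    r • m = (show Γ((Scheme.Modules.restrictFunctor g ⋙ Scheme.Modules.pushforward g).obj F, U) from
      (M1.ores (g.image_preimage_le U) r • (show Γ(F, g ''ᵁ (g ⁻¹ᵁ U)) from m) : Γ(F, g ''ᵁ (g ⁻¹ᵁ U)))) := by
  have h : g.app U ≫ (g.appIso (g ⁻¹ᵁ U)).inv = M1.ores (g.image_preimage_le U) := by
    rw [← cancel_mono (g.appIso (g ⁻¹ᵁ U)).hom, Category.assoc, Iso.inv_hom_id, Category.comp_id,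
      Scheme.Hom.appIso_hom', Scheme.Hom.appLE, Scheme.Hom.naturality_assoc, ← Functor.map_comp]
    exact ((congrArg (g.app U ≫ ·) (G.presheaf.map_id _)).trans (Category.comp_id _)).symm
  show ((g.appIso (g ⁻¹ᵁ U)).inv (g.app U r) • (show Γ(F, g ''ᵁ (g ⁻¹ᵁ U)) from m) : Γ(F, g ''ᵁ (g ⁻¹ᵁ U))) = _
  rw [← h]
  rfl

variable {F : X.Modules} (hF : Coh.IsQCoh F) (hfl : FlatMod.IsFlatOver (X ↘ Spec (CommRingCat.of R)) F) {t : R} (ht : Irreducible t)
  {G : Scheme.{u}} (g : G ⟶ X) [IsOpenImmersion g] (hg : g.opensRange = X.basicOpen (gl t))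

include hg in
theorem image_preimage (V : X.Opens) : g ''ᵁ (g ⁻¹ᵁ V) = X.basicOpen (glon V t) := by
  rw [Scheme.Hom.image_preimage_eq_opensRange_inf, hg, inf_comm]
  exact (Scheme.basicOpen_res X (gl t) (homOfLE (le_top : V ≤ (⊤ : X.Opens))).op).symm

include hF hfl ht hg in
theorem mono_unit : Mono ((Scheme.Modules.restrictAdjunction g).unit.app F) :=
  haveI := hF
  Preadditive.mono_of_cancel_zero _ fun {Z} d hd => hom_ext_affine _ _ fun W hW z => by
    have h1 : M1.mres F (g.image_preimage_le W) (d.app W z) = 0 := congrArg (fun w => w.app W z) hd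
    have h2 : M1.mres F (X.basicOpen_le (glon W t)) (d.app W z) = 0 := by
      rw [← M1.mres_mres F (g.image_preimage_le W) (image_preimage g hg W).ge, h1, map_zero]
    obtain ⟨n, hn⟩ := M1.exists_pow_smul_eq_zero_affine F hW (glon W t) _ h2
    refine eq_zero_of_smul hF hfl (pow_ne_zero n ht.ne_zero) hW (Eq.trans ?_ hn)
    congr 1
    show M1.ores _ (Coh.toGlobal pp (t ^ n)) = _
    rw [map_pow, map_pow]

include hF hfl ht hg in
/-- Morphisms on the generic fibre extend after multiplication by a power. -/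
theorem exists_extend [CompactSpace X] {I : X.Modules} (hI : Coh.IsCoh I)
    (ψ : (Scheme.Modules.restrictFunctor g).obj I ⟶ (Scheme.Modules.restrictFunctor g).obj F) :
    ∃ (N : ℕ) (φ : I ⟶ F), (Scheme.Modules.restrictFunctor g).map φ =
      Formal.smulModΓ _ (g.appTop (gl (t ^ N))) ≫ ψ := by
  classical
  haveI := hF
  haveI : Coh.IsQCoh I := hI.1
  let ad := Scheme.Modules.restrictAdjunction g
  let u := ad.unit.app F
  haveI : Mono u := mono_unit hF hfl ht g hg
  let ψ' : I ⟶ (Scheme.Modules.restrictFunctor g ⋙ Scheme.Modules.pushforward g).obj F := ad.homEquiv _ _ ψ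
  let q := cokernel.π u
  have hloc : ∀ x : X, ∃ (U : X.Opens) (T : Finset Γ(I, U)) (N : ℕ), x ∈ U ∧ IsAffineOpen U ∧
      Submodule.span Γ(X, U) (T : Set Γ(I, U)) = ⊤ ∧
      ∀ M ≥ N, ∀ s ∈ T, (Formal.smulMod R I (t ^ M) ≫ ψ' ≫ q).app U s = 0 := by
    intro x
    obtain ⟨U, hU, hxU, -⟩ := exists_isAffineOpen_mem_and_subset (X := X) (x := x) (U := ⊤) trivial
    haveI := M1.finite_sections hI.1 hI.2 hU
    obtain ⟨T, hT⟩ := Module.Finite.fg_top (R := Γ(X, U)) (M := Γ(I, U))
    have key : ∀ s : Γ(I, U), ∃ n : ℕ, ∀ M ≥ n, (Formal.smulMod R I (t ^ M) ≫ ψ' ≫ q).app U s = 0 := by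
      intro s
      obtain ⟨n, s₀, h⟩ := M1.exists_pow_smul_eq_res_affine F hU (glon U t)
        (M1.mres F (image_preimage g hg U).ge (show Γ(F, g ''ᵁ (g ⁻¹ᵁ U)) from ψ'.app U s))
      have hu : u.app U s₀ = glon U t ^ n • ψ'.app U s := by
        refine Eq.trans ?_ (smul_pushRes g (glon U t ^ n) (ψ'.app U s)).symm
        show M1.mres F (g.image_preimage_le U) s₀ = _
        rw [← M1.mres_mres F (X.basicOpen_le (glon U t)) (image_preimage g hg U).le, h, M1.mres_smul,
          M1.mres_mres, M1.mres_id, map_pow, M1.ores_ores, map_pow]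
      refine ⟨n, fun M hM => ?_⟩
      obtain ⟨d, rfl⟩ := Nat.exists_eq_add_of_le' hM
      show q.app U (ψ'.app U ((Formal.smulMod R I (t ^ (d + n))).app U s)) = 0
      rw [smulMod_apply, Scheme.Modules.Hom.app_smul, Scheme.Modules.Hom.app_smul]
      have hd : glon (X := X) U (t ^ (d + n)) = glon U t ^ d * glon U t ^ n := by
        rw [← pow_add, ← map_pow]
        exact congrArg _ (map_pow _ _ _)
      rw [hd, mul_smul, ← Scheme.Modules.Hom.app_smul q (glon U t ^ n), ← hu,
        show q.app U (u.app U s₀) = 0 from congrArg (fun w => w.app U s₀) (cokernel.condition u), smul_zero]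
    choose n hn using key
    exact ⟨U, T, T.sup n, hxU, hU, hT, fun M hM s hs => hn s M ((Finset.le_sup hs).trans hM)⟩
  choose U T N hxU hUa hT hN using hloc
  obtain ⟨S, hS⟩ := isCompact_univ.elim_finite_subcover (fun x : X => (U x : Set X))
    (fun x => (U x).2) fun x _ => Set.mem_iUnion.2 ⟨x, hxU x⟩
  have hz : Formal.smulMod R I (t ^ S.sup N) ≫ ψ' ≫ q = 0 := KS29.eq_zero_of_generators _ fun y => by
    obtain ⟨x, hxS, hy⟩ := Set.mem_iUnion₂.1 (hS (Set.mem_univ y))
    exact ⟨U x, T x, hy, hUa x, hT x, fun s hs => hN x _ (Finset.le_sup hxS) s hs⟩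
  refine ⟨S.sup N, Abelian.monoLift u (Formal.smulMod R I (t ^ S.sup N) ≫ ψ') ((Category.assoc _ _ _).trans hz), ?_⟩
  refine (ad.homEquiv _ _).injective ?_
  rw [← PunctFree27.restrict_map_smulModΓ, Adjunction.homEquiv_naturality_left, Adjunction.homEquiv_unit]
  exact (ad.unit.naturality _).symm.trans (Abelian.monoLift_comp u _ _)

end scheme

end Groth.Agent.DvrHom8
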