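import Groth.Agent.Lib.DefDiag3.Hom
import Groth.Agent.Lib.CBC10.Complex
import Groth.Agent.Lib.KS29.BaseChange
import Groth.Agent.Lib.LocCohZ.ModCompare
import Groth.Agent.Lib.PunctFree27.Scheme
import Groth.Agent.Lib.FibFlat5.Quot
import Groth.Agent.Lib.FormalH7.Nbhd
import Groth.Agent.Lib.CohFound.ProperFinite
import Groth.Prelude.Def_KLin

/-! Hom modules of flat coherent modules over a discrete valuation ring. -/

set_option autoImplicit false
set_option linter.style.haveILetI false
set_option linter.unusedSectionVars false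
set_option backward.isDefEq.respectTransparency false
set_option backward.isDefEq.respectTransparency.types false
set_option maxHeartbeats 800000

universe u

open CategoryTheory CategoryTheory.Limits AlgebraicGeometry TopologicalSpace Opposite

noncomputable section

namespace Groth.Agent.DvrHom8

open Groth.Agent

variable {R : Type u} [CommRing R] {X : Scheme.{u}} [X.Over (Spec (CommRingCat.of R))]

local notation "pp" => X ↘ Spec (CommRingCat.of R)

/-- The scalar as a global function. -/
abbrev gl (c : R) : Γ(X, (⊤ : X.Opens)) := Coh.toGlobal pp c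

/-- The scalar on an open. -/
abbrev glon (W : X.Opens) (c : R) : Γ(X, W) := M1.ores (le_top : W ≤ (⊤ : X.Opens)) (gl c)

theorem smulMod_apply (M : X.Modules) (c : R) (W : X.Opens) (m : Γ(M, W)) :
    (Formal.smulMod R M c).app W m = glon W c • m :=
  KLin.smulModΓ_app_apply M (gl c) W m

theorem hom_ext_affine {Z F : X.Modules} (d e : Z ⟶ F)
    (h : ∀ W : X.Opens, IsAffineOpen W → ∀ z : Γ(Z, W), d.app W z = e.app W z) : d = e := by
  refine Scheme.Modules.hom_ext _ _ fun W => ?_
  ext z
  refine M1.section_ext _ _ fun x hx => ?_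
  obtain ⟨V, hV, hxV, hVW⟩ := exists_isAffineOpen_mem_and_subset (x := x) (U := W) hx
  rw [← M1.germ_mres F (show V ≤ W from hVW) hxV (d.app W z), ← M1.germ_mres F (show V ≤ W from hVW) hxV (e.app W z),
    ← M1.app_mres, ← M1.app_mres, h V hV]

section flat

attribute [local instance] CBC10.secA

theorem eq_zero_of_smul [IsDomain R] {F : X.Modules} (hF : Coh.IsQCoh F) (hfl : FlatMod.IsFlatOver pp F)
    {c : R} (hc : c ≠ 0) {W : X.Opens} (hW : IsAffineOpen W) {s : Γ(F, W)} (h : glon W c • s = 0) : s = 0 := by
  haveI := CBC10.flat_secA (A := R) hF hfl hW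
  refine Module.Flat.isSMulRegular_of_nonZeroDivisors (M := Γ(F, W)) (mem_nonZeroDivisors_of_ne_zero hc) ?_
  show c • s = c • (0 : Γ(F, W))
  rw [smul_zero, ← CBC10.smulMod_app (A := R) F c W s]
  exact (smulMod_apply F c W s).trans h

end flat

theorem mono_smulMod [IsDomain R] {F : X.Modules} (hF : Coh.IsQCoh F) (hfl : FlatMod.IsFlatOver pp F)
    {c : R} (hc : c ≠ 0) : Mono (Formal.smulMod R F c) :=
  Preadditive.mono_of_cancel_zero _ fun {Z} d hd => hom_ext_affine _ _ fun W hW z => by
    refine eq_zero_of_smul hF hfl hc hW ?_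
    rw [← smulMod_apply]
    exact congrArg (fun t => t.app W z) hd

/-- Hom of coherent modules is finite. -/
theorem tenR_linear (I : X.Modules) : (CohMop.tenR I).Linear R :=
  (Functor.linear_iff R _).mpr fun W c => by
    rw [KLin.smul_id, KLin.smul_id]
    exact DefDiag3.tenR_map_smulModΓ I W _

theorem ihom_linear (I : X.Modules) : (CohMop.ihom I).Linear R := by
  haveI := tenR_linear (R := R) I
  refine (Functor.linear_iff R _).mpr fun M a => ?_
  let adj := CohMop.ihomAdj I
  refine (adj.homEquiv _ _).symm.injective ?_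
  rw [adj.homEquiv_counit, adj.homEquiv_counit, ← Functor.comp_map]
  erw [adj.counit.naturality]
  rw [Functor.id_map, Functor.map_smul, CategoryTheory.Functor.map_id]
  erw [Linear.comp_smul, Category.comp_id, Linear.smul_comp, Category.id_comp]

theorem eHom_smul' (I : X.Modules) {Q : X.Modules} (c : R) (f : I ⟶ Q) :
    DefDiag3.eHom I (c • f) = (gl c : Γ(X, (⊤ : X.Opens))) • DefDiag3.eHom I f := by
  haveI := ihom_linear (R := R) I
  unfold DefDiag3.eHom
  rw [Linear.comp_smul, Adjunction.homEquiv_unit, Functor.map_smul, Linear.comp_smul, KLin.smul_app_apply,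
    ← Adjunction.homEquiv_unit]
  congr 1
  exact ConcreteCategory.congr_hom (X.presheaf.map_id (Opposite.op ⊤)) _

open CohMop in
theorem finite_hom [IsNoetherianRing R] [IsProper pp] {F G : X.Modules} (hF : Coh.IsCoh F)
    (hG : Coh.IsCoh G) : Module.Finite R (F ⟶ G) := by
  classical
  let f := pp
  haveI : IsLocallyNoetherian (Spec (CommRingCat.of R)) := inferInstance
  let P := ihom F ⋙ Scheme.Modules.pushforward f
  haveI : P.Additive := inferInstance
  haveI : PreservesFiniteLimits P :=
    haveI : PreservesLimitsOfSize.{0, 0} (Scheme.Modules.pushforward f) :=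
      (Scheme.Modules.pullbackPushforwardAdjunction f).rightAdjoint_preservesLimits
    haveI : PreservesFiniteLimits (Scheme.Modules.pushforward f) := PreservesLimitsOfSize.preservesFiniteLimits _
    haveI : PreservesFiniteLimits (ihom F) := PreservesLimitsOfSize.preservesFiniteLimits _
    comp_preservesFiniteLimits _ _
  have hC : Coh.IsCoh (P.obj G) :=
    CohFound.isCoh_of_iso (P.rightDerivedZeroIsoSelf.app G) (isCoh_relExt f hF hG 0)
  let str : R →+* Γ(Spec (CommRingCat.of R), ⊤) := (Scheme.ΓSpecIso (CommRingCat.of R)).inv.hom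
  letI : Module R Γ(P.obj G, ⊤) := Module.compHom _ str
  haveI : Module.Finite R Γ(P.obj G, ⊤) := by
    haveI := M1.finite_sections hC.1 hC.2 (isAffineOpen_top (Spec (CommRingCat.of R)))
    letI : Algebra R Γ(Spec (CommRingCat.of R), ⊤) := str.toAlgebra
    haveI : IsScalarTower R Γ(Spec (CommRingCat.of R), ⊤) Γ(P.obj G, ⊤) :=
      IsScalarTower.of_algebraMap_smul fun _ _ => rfl
    haveI : Module.Finite R Γ(Spec (CommRingCat.of R), ⊤) :=
      Module.Finite.of_surjective (Algebra.linearMap R _)
        (ConcreteCategory.bijective_of_isIso (Scheme.ΓSpecIso (CommRingCat.of R)).inv).2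
    exact Module.Finite.trans Γ(Spec (CommRingCat.of R), ⊤) _
  let Φ : (F ⟶ G) →ₗ[R] Γ(P.obj G, ⊤) :=
    { toFun := fun g => (DefDiag3.eHom F g : Γ(P.obj G, ⊤))
      map_add' := fun a b => DefDiag3.eHom_add F a b
      map_smul' := fun c g => by
        rw [RingHom.id_apply, eHom_smul']
        rfl }
  exact Module.Finite.of_injective Φ (DefDiag3.eHom_injective F)

theorem germ_smulMod (M : X.Modules) (c : R) {V : X.Opens} {x : X} (hxV : x ∈ V) (t : Γ(M, V)) :
    M.presheaf.germ V x hxV ((Formal.smulMod R M c).app V t) =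
      X.presheaf.germ ⊤ x trivial (gl c) • M.presheaf.germ V x hxV t := by
  rw [smulMod_apply, M1.germ_smul]
  congr 1
  exact X.presheaf.germ_res_apply (homOfLE (le_top : V ≤ ⊤)) x hxV (gl c)

/-- `c`-divisibility read on stalks. -/
theorem exists_eq_smul {I F : X.Modules} (c : R)
    [Mono (Formal.smulMod R F c)] (φ : I ⟶ F)
    (h : ∀ (x : X) (a : I.presheaf.stalk x), ∃ b : F.presheaf.stalk x,
      FormalH7.stk φ x a = X.presheaf.germ ⊤ x trivial (gl c) • b) :
    ∃ ψ : I ⟶ F, φ = c • ψ := by
  let σ := Formal.smulMod R F c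
  have hq : φ ≫ cokernel.π σ = 0 := Scheme.Modules.hom_ext _ _ fun W => by
    ext z
    refine M1.section_ext _ _ fun x hx => ?_
    obtain ⟨b, hb⟩ := h x (I.presheaf.germ W x hx z)
    obtain ⟨V, hxV, t, rfl⟩ := F.presheaf.germ_exist b
    have hb' : F.presheaf.germ W x hx (φ.app W z) = F.presheaf.germ V x hxV (σ.app V t) :=
      (M1.germ_naturality φ W x hx z).symm.trans (hb.trans (germ_smulMod F c hxV t).symm)
    have e1 : (cokernel σ).presheaf.germ W x hx ((cokernel.π σ).app W (φ.app W z)) =
        (cokernel σ).presheaf.germ V x hxV ((cokernel.π σ).app V (σ.app V t)) :=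
      ((M1.germ_naturality (cokernel.π σ) W x hx _).symm.trans
        (congrArg ((M1.stalkAb x).map (cokernel.π σ)) hb')).trans
        (M1.germ_naturality (cokernel.π σ) V x hxV _)
    have e0 : (cokernel.π σ).app V (σ.app V t) = 0 :=
      congrArg (fun w => w.app V t) (cokernel.condition σ)
    exact e1.trans (((congrArg _ e0).trans (map_zero _)).trans (map_zero _).symm)
  refine ⟨Abelian.monoLift σ φ hq, ((KLin.smul_def R X c _).trans ?_).symm⟩
  exact (KLin.comp_smulModΓ (Abelian.monoLift σ φ hq) _).symm.trans (Abelian.monoLift_comp σ φ hq)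

end Groth.Agent.DvrHom8
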