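import Groth.Agent.Lib.DvrHom8.Fibre
import Groth.Agent.Lib.ProjSpace.Basic

/-! Freeness and rank of the Hom module. -/

set_option autoImplicit false
set_option linter.style.haveILetI false
set_option linter.unusedSectionVars false
set_option backward.isDefEq.respectTransparency false
set_option backward.isDefEq.respectTransparency.types false
set_option maxHeartbeats 800000

universe u

open CategoryTheory CategoryTheory.Limits AlgebraicGeometry TopologicalSpace Opposite

noncomputable section

namespace Groth.Agent.DvrHom8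

open Groth.Agent

variable {R : Type u} [CommRing R] [IsDomain R] [IsDiscreteValuationRing R]
  {X : Scheme.{u}} [X.Over (Spec (CommRingCat.of R))]

theorem maximalIdeal_stalk_le {t : R} (ht : Irreducible t) (y : ↥(Spec (CommRingCat.of R)))
    (hy : t ∈ (y : PrimeSpectrum R).asIdeal) :
    IsLocalRing.maximalIdeal ((Spec (CommRingCat.of R)).presheaf.stalk y) ≤
      Ideal.span {(Spec (CommRingCat.of R)).presheaf.germ ⊤ y trivial ((Scheme.ΓSpecIso (CommRingCat.of R)).inv t)} := by
  intro z hz
  obtain ⟨a, b, hb, h⟩ := exists_stalk_frac y z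
  have ha : a ∈ IsLocalRing.maximalIdeal R := by
    refine IsLocalRing.le_maximalIdeal (y : PrimeSpectrum R).isPrime.ne_top ?_
    by_contra ha
    exact (IsLocalRing.mem_maximalIdeal z).1 hz (isUnit_of_mul_isUnit_left (h ▸ (mem_iff_isUnit y a).1 ha))
  rw [ht.maximalIdeal_eq, Ideal.mem_span_singleton] at ha
  obtain ⟨a', rfl⟩ := ha
  obtain ⟨v, hv⟩ := (mem_iff_isUnit y b).1 hb
  rw [map_mul, map_mul, ← hv] at h
  rw [(Units.eq_mul_inv_iff_mul_eq (c := v)).2 h, mul_assoc]
  exact Ideal.mul_mem_right _ _ (Ideal.mem_span_singleton_self _)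

/-- A map vanishing on the closed fibre is divisible by the uniformizer. -/
theorem exists_eq_smul_of_fibre {t : R} (ht : Irreducible t) {I F : X.Modules} (hF : Coh.IsQCoh F)
    (hfl : FlatMod.IsFlatOver (X ↘ Spec (CommRingCat.of R)) F) (y : ↥(Spec (CommRingCat.of R)))
    (hy : t ∈ (y : PrimeSpectrum R).asIdeal) (φ : I ⟶ F)
    (h : (Scheme.Modules.pullback (Scheme.Hom.fiberι (X ↘ Spec (CommRingCat.of R)) y)).map φ = 0) :
    ∃ ψ : I ⟶ F, φ = t • ψ := by
  haveI := mono_smulMod hF hfl ht.ne_zero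
  refine exists_eq_smul t φ fun x a => ?_
  let g := X.presheaf.germ ⊤ x trivial (gl t)
  by_cases hu : IsUnit g
  · obtain ⟨v, hv⟩ := hu
    refine ⟨(↑v⁻¹ : X.presheaf.stalk x) • FormalH7.stk φ x a, ?_⟩
    show _ = g • _
    rw [← hv, ← mul_smul, Units.mul_inv, one_smul]
  · have hxy : (X ↘ Spec (CommRingCat.of R)) x = y := by
      have h1 : x ∉ X.basicOpen (gl t) := fun hm => hu ((Scheme.mem_basicOpen X (gl t) x trivial).1 hm)
      rw [show (X.basicOpen (gl t) : X.Opens) = (X ↘ Spec (CommRingCat.of R)) ⁻¹ᵁ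
        (Spec (CommRingCat.of R)).basicOpen ((Scheme.ΓSpecIso (CommRingCat.of R)).inv t) from
        (Scheme.preimage_basicOpen _ _).symm, basicOpen_eq_of_affine] at h1
      have h2 : t ∈ (((X ↘ Spec (CommRingCat.of R)) x : PrimeSpectrum R)).asIdeal := not_not.1 h1
      have key : ∀ q : PrimeSpectrum R, t ∈ q.asIdeal → q.asIdeal = IsLocalRing.maximalIdeal R := fun q hq => by
        haveI := q.isPrime.isMaximal (fun hb => ht.ne_zero (Ideal.mem_bot.1 (hb ▸ hq)))
        exact IsLocalRing.eq_maximalIdeal inferInstance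
      exact PrimeSpectrum.ext ((key _ h2).trans (key _ hy).symm)
    obtain ⟨w, rfl⟩ : x ∈ Set.range (Scheme.Hom.fiberι (X ↘ Spec (CommRingCat.of R)) y) := by
      rw [Scheme.Hom.range_fiberι]; exact hxy
    have hs : Function.Surjective ((Scheme.Hom.fiberι (X ↘ Spec (CommRingCat.of R)) y).stalkMap w) :=
      Scheme.Hom.stalkMap_surjective _ w
    have h0 := FormalH7.stalk_mem_ker_smul _ φ h w hs a
    rw [FibFlat5.ker_stalkMap_fiberι] at h0
    have hJ : (IsLocalRing.maximalIdeal ((Spec (CommRingCat.of R)).presheaf.stalk _)).map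
        ((X ↘ Spec (CommRingCat.of R)).stalkMap (Scheme.Hom.fiberι (X ↘ Spec (CommRingCat.of R)) y w)).hom ≤
        Ideal.span {g} := by
      refine (Ideal.map_mono (maximalIdeal_stalk_le ht _ (hxy.symm ▸ hy))).trans (le_of_eq ?_)
      rw [Ideal.map_span, Set.image_singleton]
      congr 2
      exact Scheme.Hom.germ_stalkMap_apply _ ⊤ _ _ _
    have h1 := Submodule.smul_mono_left hJ h0
    rw [Submodule.ideal_span_singleton_smul, Submodule.mem_smul_pointwise_iff_exists] at h1
    obtain ⟨b, -, hb⟩ := h1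
    exact ⟨b, hb.symm⟩

theorem main (hproj : ∃ (m : ℕ) (ι : X ⟶ CohB1.ProjSpace m R), IsClosedImmersion ι ∧
      ι ≫ CohB1.ProjSpace.toSpec m R = X ↘ Spec (CommRingCat.of R))
    (I F : X.Modules) (hI : Coh.IsCoh I) (hF : Coh.IsCoh F)
    (_hIfl : FlatMod.IsFlatOver (X ↘ Spec (CommRingCat.of R)) I)
    (hFfl : FlatMod.IsFlatOver (X ↘ Spec (CommRingCat.of R)) F)
    (n : ℕ)
    (hfib : ∀ y : ↥(Spec (CommRingCat.of R)),
      letI : ((X ↘ Spec (CommRingCat.of R)).fiber y).Over
          (Spec (CommRingCat.of ((Spec (CommRingCat.of R)).residueField y))) :=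
        ⟨(X ↘ Spec (CommRingCat.of R)).fiberToSpecResidueField y⟩
      Module.finrank ((Spec (CommRingCat.of R)).residueField y)
        ((Scheme.Modules.pullback ((X ↘ Spec (CommRingCat.of R)).fiberι y)).obj I ⟶
          (Scheme.Modules.pullback ((X ↘ Spec (CommRingCat.of R)).fiberι y)).obj F) = n) :
    Module.Finite R (I ⟶ F) ∧ Module.Free R (I ⟶ F) ∧ Module.finrank R (I ⟶ F) = n ∧
      (0 < n → ∃ φ : I ⟶ F, ∀ y : ↥(Spec (CommRingCat.of R)),
        (Scheme.Modules.pullback ((X ↘ Spec (CommRingCat.of R)).fiberι y)).map φ ≠ 0) := by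
  classical
  let p := X ↘ Spec (CommRingCat.of R)
  haveI : IsProper p := by
    obtain ⟨m, ι, hι, e⟩ := hproj
    haveI := hι
    haveI := Groth.Agent.ProjSpace.isProper_toSpec m R
    show IsProper (X ↘ Spec (CommRingCat.of R))
    rw [← e]
    infer_instance
  haveI : CompactSpace X := QuasiCompact.compactSpace_of_compactSpace p
  obtain ⟨t, ht⟩ := IsDiscreteValuationRing.exists_irreducible R
  haveI := finite_hom (R := R) hI hF
  haveI : Module.IsTorsionFree R (I ⟶ F) := ⟨fun r hr a b h => by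
    haveI := mono_smulMod hF.1 hFfl hr.ne_zero
    refine (cancel_mono (Formal.smulMod R F r)).1 ?_
    exact (KLin.comp_smulModΓ a _).trans ((show r • a = r • b from h).trans (KLin.comp_smulModΓ b _).symm)⟩
  haveI : Module.Free R (I ⟶ F) := inferInstance
  let η := eta R
  let j := p.fiberι η
  haveI : IsOpenImmersion ((Spec (CommRingCat.of R)).fromSpecResidueField η) := isOpenImmersion_eta ht
  haveI : IsOpenImmersion j := inferInstanceAs (IsOpenImmersion (pullback.fst p _))
  have hj : j.opensRange = X.basicOpen (gl t) := opensRange_eta ht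
  letI : (p.fiber η).Over (Spec (CommRingCat.of ((Spec (CommRingCat.of R)).residueField η))) :=
    ⟨p.fiberToSpecResidueField η⟩
  let Ψ := fun φ : I ⟶ F => (Scheme.Modules.pullback j).map φ
  have hadd : ∀ a b, Ψ (a + b) = Ψ a + Ψ b := fun a b => Functor.map_add _
  have hsmul : ∀ (c : R) a, Ψ (c • a) = rho η c • Ψ a := fun c a => pullback_smul η c a
  let ΨL : (I ⟶ F) →ₛₗ[rho η] ((Scheme.Modules.pullback j).obj I ⟶ (Scheme.Modules.pullback j).obj F) :=
    { toFun := Ψ, map_add' := hadd, map_smul' := hsmul }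
  let e := Scheme.Modules.restrictFunctorIsoPullback j
  haveI : Mono ((Scheme.Modules.restrictAdjunction j).unit.app F) := mono_unit hF.1 hFfl ht j hj
  have hinj : ∀ φ, Ψ φ = 0 → φ = 0 := by
    intro φ h
    have h1 : (Scheme.Modules.restrictFunctor j).map φ = 0 := by
      refine (cancel_mono (e.hom.app F)).1 ?_
      rw [e.hom.naturality φ, zero_comp]
      exact (congrArg (_ ≫ ·) h).trans comp_zero
    refine (cancel_mono ((Scheme.Modules.restrictAdjunction j).unit.app F)).1 ?_
    have h2 := (Scheme.Modules.restrictAdjunction j).unit.naturality φ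
    rw [Functor.id_map, Functor.comp_map, h1, Functor.map_zero, comp_zero] at h2
    exact h2.trans zero_comp.symm
  have hsurj : ∀ v, ∃ (N : ℕ) (φ : I ⟶ F), Ψ φ = rho η (t ^ N) • v := by
    intro v
    obtain ⟨N, φ, h⟩ := exists_extend hF.1 hFfl ht j hj hI (e.hom.app I ≫ v ≫ e.inv.app F)
    refine ⟨N, φ, ?_⟩
    refine (cancel_epi (e.hom.app I)).1 ((e.hom.naturality φ).symm.trans ?_)
    rw [h, Category.assoc, Category.assoc, Category.assoc, e.inv_hom_id_app, Category.comp_id]
    show _ = e.hom.app I ≫ Formal.smulModΓ _ (Coh.toGlobal (p.fiberToSpecResidueField η) (rho η (t ^ N))) ≫ v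
    rw [toGlobal_fiber, ← Category.assoc, ← Category.assoc]
    exact congrArg (· ≫ v) (KLin.comp_smulModΓ (e.hom.app I) _).symm
  let b := Module.Free.chooseBasis R (I ⟶ F)
  let w := fun i => Ψ (b i)
  have hli : LinearIndependent ((Spec (CommRingCat.of R)).residueField η) w := by
    rw [Fintype.linearIndependent_iff]
    intro c hc i
    choose a d hd hcd using fun i => rho_surj η (c i)
    let B := ∏ k, d k
    let c' := fun k => a k * ∏ l ∈ Finset.univ.erase k, d l
    have hB : ∀ k, rho η B * c k = rho η (c' k) := fun k => by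
      simp only [B, c']
      rw [← Finset.mul_prod_erase Finset.univ d (Finset.mem_univ k), map_mul, map_mul, ← hcd k]
      ring
    have h0 : Ψ (∑ k, c' k • b k) = 0 := by
      show ΨL _ = 0
      rw [map_sum]
      refine (Finset.sum_congr rfl fun k _ => (hsmul (c' k) (b k)).trans
        (show rho η (c' k) • w k = rho η B • (c k • w k) by rw [← hB, mul_smul])).trans ?_
      rw [← Finset.smul_sum, hc, smul_zero]
    have h1 := Fintype.linearIndependent_iff.1 b.linearIndependent c' (hinj _ h0) i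
    have h2 : rho η B * c i = 0 := by rw [hB, h1, map_zero]
    refine (mul_eq_zero.1 h2).resolve_left fun h3 => ?_
    obtain ⟨k, -, hk⟩ := Finset.prod_eq_zero_iff.1 (rho_eta_eq_zero.1 h3)
    exact hd k (by rw [hk]; exact Ideal.zero_mem _)
  have hsp : ⊤ ≤ Submodule.span ((Spec (CommRingCat.of R)).residueField η) (Set.range w) := by
    intro v _
    obtain ⟨N, φ, h⟩ := hsurj v
    have hne : rho η (t ^ N) ≠ 0 := fun h0 => pow_ne_zero N ht.ne_zero (rho_eta_eq_zero.1 h0)
    have hmem : Ψ φ ∈ Submodule.span ((Spec (CommRingCat.of R)).residueField η) (Set.range w) := by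
      rw [← b.sum_repr φ]
      show ΨL _ ∈ _
      rw [map_sum]
      exact Submodule.sum_mem _ fun k _ => by
        rw [LinearMap.map_smulₛₗ]
        exact Submodule.smul_mem _ _ (Submodule.subset_span ⟨k, rfl⟩)
    rw [← inv_smul_smul₀ hne v, ← h]
    exact Submodule.smul_mem _ _ hmem
  have hr : Fintype.card (Module.Free.ChooseBasisIndex R (I ⟶ F)) = n :=
    (Module.finrank_eq_card_basis (Module.Basis.mk hli hsp)).symm.trans (hfib η)
  refine ⟨inferInstance, inferInstance, (Module.finrank_eq_card_basis b).trans hr, fun hn => ?_⟩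
  obtain ⟨i⟩ : Nonempty (Module.Free.ChooseBasisIndex R (I ⟶ F)) := Fintype.card_pos_iff.1 (hr.symm ▸ hn)
  refine ⟨b i, fun y h => ?_⟩
  by_cases hy : y = η
  · subst hy
    exact b.ne_zero i (hinj _ h)
  · obtain ⟨ψ, hψ⟩ := exists_eq_smul_of_fibre ht hF.1 hFfl y
      (by_contra fun hn' => hy ((eq_eta_iff ht y).2 hn')) (b i) h
    have h1 := congrArg (fun z => b.repr z i) hψ
    simp only [Module.Basis.repr_self, Finsupp.single_eq_same, map_smul, Finsupp.smul_apply, smul_eq_mul] at h1
    exact ht.not_isUnit (IsUnit.of_mul_eq_one _ h1.symm)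

end Groth.Agent.DvrHom8
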